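import Groth.Prelude.Def_QuadSing
import Mathlib.RingTheory.PowerSeries.Inverse
import Mathlib.RingTheory.MvPowerSeries.Rename
import Mathlib.RingTheory.AdicCompletion.LocalRing
import Mathlib.RingTheory.AdicCompletion.Noetherian
import Mathlib.RingTheory.Artinian.Ring
import Mathlib.RingTheory.Spectrum.Prime.Homeomorph
import Mathlib.RingTheory.Finiteness.Descent
import Mathlib.RingTheory.Flat.FaithfullyFlat.Algebra
import Mathlib.FieldTheory.IsAlgClosed.AlgebraicClosure
import Mathlib.LinearAlgebra.Dimension.Constructions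

/-!
# Zero-dimensional ordinary quadratic points have length two
-/

set_option autoImplicit false
set_option linter.style.haveILetI false
set_option maxHeartbeats 800000

universe u

open scoped TensorProduct
open IsLocalRing

noncomputable section

namespace QuadZeroLib

variable {k : Type u} [Field k]

/-- The first two coefficients. -/
def coeffs (k : Type u) [Field k] : PowerSeries k →ₗ[k] k × k :=
  (PowerSeries.coeff 0).prod (PowerSeries.coeff 1)

theorem finite_finrank_quot_order_two (f : PowerSeries k) (h0 : PowerSeries.coeff 0 f = 0)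
    (h1 : PowerSeries.coeff 1 f = 0) (h2 : PowerSeries.coeff 2 f ≠ 0) :
    Module.Finite k (PowerSeries k ⧸ Ideal.span {f}) ∧
      Module.finrank k (PowerSeries k ⧸ Ideal.span {f}) = 2 := by
  obtain ⟨u, hu⟩ : (PowerSeries.X : PowerSeries k) ^ 2 ∣ f := PowerSeries.X_pow_dvd_iff.2 fun m hm => by
    rcases m with _ | _ | m
    · exact h0
    · exact h1
    · omega
  have hu0 : IsUnit u := by
    refine PowerSeries.isUnit_iff_constantCoeff.2 (isUnit_iff_ne_zero.2 fun h => h2 ?_)
    rw [hu, PowerSeries.coeff_X_pow_mul', if_pos le_rfl]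
    simpa using h
  have hspan : Ideal.span {f} = Ideal.span {(PowerSeries.X : PowerSeries k) ^ 2} := by
    rw [hu, Ideal.span_singleton_mul_right_unit hu0]
  have hle : (Ideal.span {f}).restrictScalars k ≤ LinearMap.ker (coeffs k) := fun g hg => by
    rw [Submodule.restrictScalars_mem, hspan, Ideal.mem_span_singleton] at hg
    have h := PowerSeries.X_pow_dvd_iff.1 hg
    show (PowerSeries.coeff 0 g, PowerSeries.coeff 1 g) = 0
    rw [h 0 (by omega), h 1 (by omega)]
    rfl
  have hge : LinearMap.ker (coeffs k) ≤ (Ideal.span {f}).restrictScalars k := fun g hg => by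
    rw [Submodule.restrictScalars_mem, hspan, Ideal.mem_span_singleton]
    refine PowerSeries.X_pow_dvd_iff.2 fun m hm => ?_
    have h : (PowerSeries.coeff 0 g, PowerSeries.coeff 1 g) = 0 := hg
    rcases m with _ | _ | m
    · exact congrArg Prod.fst h
    · exact congrArg Prod.snd h
    · omega
  have hsurj : Function.Surjective (coeffs k) := fun p =>
    ⟨PowerSeries.C p.1 + PowerSeries.C p.2 * PowerSeries.X, by simp [coeffs, PowerSeries.coeff_C]⟩
  let e : (PowerSeries k ⧸ Ideal.span {f}) ≃ₗ[k] k × k :=
    ((Submodule.Quotient.restrictScalarsEquiv k (Ideal.span {f})).symm.trans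
      (Submodule.quotEquivOfEq _ _ (le_antisymm hle hge))).trans (LinearMap.quotKerEquivOfSurjective _ hsurj)
  refine ⟨Module.Finite.equiv e.symm, ?_⟩
  rw [e.finrank_eq, Module.finrank_prod, Module.finrank_self]

theorem finite_finrank_quot_mv (f : MvPowerSeries (Fin 1) k) (hf : VanCyc.OrdQuadSeries f) :
    Module.Finite k (MvPowerSeries (Fin 1) k ⧸ Ideal.span {f}) ∧
      Module.finrank k (MvPowerSeries (Fin 1) k ⧸ Ideal.span {f}) = 2 := by
  obtain ⟨⟨h0, h1⟩, hq⟩ := hf
  have h2 : MvPowerSeries.coeff (Finsupp.single (0 : Fin 1) 2) f ≠ 0 := fun h => by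
    have hv : (fun _ : Fin 1 => (1 : k)) = 0 := hq _ (by simp [VanCyc.quadEval, VanCyc.quadPart, h]) (by
      funext i
      simp [Matrix.mulVec, dotProduct, VanCyc.polarMatrix, VanCyc.quadPart, h, Subsingleton.elim i 0])
    exact one_ne_zero (congrFun hv 0)
  let e : MvPowerSeries (Fin 1) k ≃ₐ[k] PowerSeries k :=
    MvPowerSeries.renameEquiv (R := k) (Equiv.ofUnique (Fin 1) Unit)
  have hc : ∀ n : ℕ, PowerSeries.coeff n (e f) = MvPowerSeries.coeff (Finsupp.single (0 : Fin 1) n) f := fun n => by
    have h := MvPowerSeries.coeff_embDomain_rename (Equiv.ofUnique (Fin 1) Unit).toEmbedding f (Finsupp.single 0 n)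
    rw [Finsupp.embDomain_single] at h
    exact h
  obtain ⟨hfin, hr⟩ := finite_finrank_quot_order_two (e f)
    (by rw [hc, Finsupp.single_zero, MvPowerSeries.coeff_zero_eq_constantCoeff]; exact h0) (by rw [hc]; exact h1 0)
    (by rw [hc]; exact h2)
  let E : (MvPowerSeries (Fin 1) k ⧸ Ideal.span {f}) ≃ₐ[k] (PowerSeries k ⧸ Ideal.span {e f}) :=
    Ideal.quotientEquivAlg _ _ e (by rw [Ideal.map_span, Set.image_singleton]; rfl)
  exact ⟨Module.Finite.equiv E.symm.toLinearEquiv, E.toLinearEquiv.finrank_eq.trans hr⟩

theorem finite_finrank_of_isOrdQuadSing (A : Type u) [CommRing A] [IsLocalRing A] [IsNoetherianRing A] [Algebra k A]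
    (h : VanCyc.IsOrdQuadSing k A 0) : Module.Finite k A ∧ Module.finrank k A = 2 := by
  obtain ⟨f, hf, ⟨e⟩⟩ := h
  obtain ⟨hfin, hr⟩ := finite_finrank_quot_mv f hf
  haveI : Module.Finite k (AdicCompletion (maximalIdeal A) A) := Module.Finite.equiv e.toLinearEquiv.symm
  let φ : A →ₗ[k] AdicCompletion (maximalIdeal A) A :=
    { toFun := AdicCompletion.of (maximalIdeal A) A
      map_add' := map_add _
      map_smul' := fun c x => (AdicCompletion.of (maximalIdeal A) A).map_smul_of_tower c x }
  haveI : Module.Finite k A := Module.Finite.of_injective φ (AdicCompletion.of_injective (maximalIdeal A) A)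
  haveI : IsArtinianRing A := isArtinian_of_tower k inferInstance
  haveI : IsAdicComplete (maximalIdeal A) A := inferInstance
  let E : A ≃ₗ[k] AdicCompletion (maximalIdeal A) A :=
    LinearEquiv.ofBijective φ (AdicCompletion.of_bijective (maximalIdeal A) A)
  exact ⟨inferInstance, (E.trans e.toLinearEquiv).finrank_eq.trans hr⟩

/-- A local algebra over a separably closed field with an ordinary quadratic point of dimension zero has length two. -/
theorem finite_finrank_of_isOrdQuadPt [IsSepClosed k] {O : Type u} [CommRing O] [IsLocalRing O] (φ : k →+* O)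
    (hft : φ.EssFiniteType) (h : VanCyc.IsOrdQuadPt φ 0) :
    letI := φ.toAlgebra
    Module.Finite k O ∧ Module.finrank k O = 2 := by
  letI := φ.toAlgebra
  haveI : Algebra.EssFiniteType k O := hft
  have h' : ∀ (M : Ideal (AlgebraicClosure k ⊗[k] O)) [M.IsMaximal],
      VanCyc.IsOrdQuadSing (AlgebraicClosure k) (Localization.AtPrime M) 0 := fun M _ => h M
  let A := AlgebraicClosure k ⊗[k] O
  haveI : Algebra.EssFiniteType (AlgebraicClosure k) A := inferInstance
  haveI : IsNoetherianRing A := Algebra.EssFiniteType.isNoetherianRing (AlgebraicClosure k) A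
  let i : O →+* A := Algebra.TensorProduct.includeRight.toRingHom
  haveI : IsPurelyInseparable k (AlgebraicClosure k) := inferInstance
  have hint : i.IsIntegral := by
    have h2 : (algebraMap O (O ⊗[k] AlgebraicClosure k)).IsIntegral :=
      algebraMap_isIntegral_iff.2 inferInstance
    have h3 : i = ((Algebra.TensorProduct.comm k O (AlgebraicClosure k)).toRingEquiv.toRingHom).comp
        (algebraMap O (O ⊗[k] AlgebraicClosure k)) := RingHom.ext fun x => by
      simp [i, Algebra.TensorProduct.algebraMap_apply]
    rw [h3]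
    exact RingHom.IsIntegral.trans _ _ h2 (RingHom.isIntegral_of_surjective _ (Algebra.TensorProduct.comm k O (AlgebraicClosure k)).surjective)
  have hinj : Function.Injective (PrimeSpectrum.comap i) := by
    have h1 := (PrimeSpectrum.isHomeomorph_comap_of_isPurelyInseparable (R := O) k (AlgebraicClosure k)).injective
    have h2 := PrimeSpectrum.comap_injective_of_surjective
      ((Algebra.TensorProduct.comm k O (AlgebraicClosure k)).toRingEquiv.toRingHom)
      (Algebra.TensorProduct.comm k O (AlgebraicClosure k)).surjective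
    intro p q hpq
    refine h2 (h1 ?_)
    ext x
    have := congrArg (fun z : PrimeSpectrum O => x ∈ z.asIdeal) hpq
    simpa [i, Algebra.TensorProduct.algebraMap_apply] using this
  haveI : Nontrivial A := inferInstanceAs (Nontrivial (AlgebraicClosure k ⊗[k] O))
  haveI hA : IsLocalRing A := by
    obtain ⟨M, hM⟩ := Ideal.exists_maximal A
    refine IsLocalRing.of_unique_max_ideal ⟨M, hM, fun N hN => ?_⟩
    haveI := hN
    haveI := hM
    have e : ∀ (P : Ideal A) [P.IsMaximal], P.comap i = maximalIdeal O := fun P _ =>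
      IsLocalRing.eq_maximalIdeal (Ideal.isMaximal_comap_of_isIntegral_of_isMaximal' i hint P)
    exact congrArg PrimeSpectrum.asIdeal (hinj (a₁ := ⟨N, hN.isPrime⟩) (a₂ := ⟨M, hM.isPrime⟩)
      (PrimeSpectrum.ext ((e N).trans (e M).symm)))
  let eM : A ≃ₐ[AlgebraicClosure k] Localization.AtPrime (maximalIdeal A) :=
    (IsLocalization.atUnits A (maximalIdeal A).primeCompl (fun x hx => by
      by_contra hu
      exact hx hu)).restrictScalars (AlgebraicClosure k)
  haveI : IsNoetherianRing (Localization.AtPrime (maximalIdeal A)) :=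
    isNoetherianRing_of_ringEquiv A eM.toRingEquiv
  obtain ⟨hfin, hr⟩ := finite_finrank_of_isOrdQuadSing (Localization.AtPrime (maximalIdeal A)) (h' (maximalIdeal A))
  haveI : Module.Finite (AlgebraicClosure k) A := Module.Finite.equiv eM.toLinearEquiv.symm
  haveI : Module.Finite k O := Module.Finite.of_finite_tensorProduct_of_faithfullyFlat (AlgebraicClosure k)
  exact ⟨inferInstance, ((Module.finrank_baseChange (R := AlgebraicClosure k) (S := k) (M' := O)).symm.trans
    eM.toLinearEquiv.finrank_eq).trans hr⟩

end QuadZeroLib
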