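import Groth.Agent.PowEtCentralLib.SmoothFinite
import Mathlib.RingTheory.Etale.Field
import Mathlib.RingTheory.Spectrum.Prime.Homeomorph
import Mathlib.LinearAlgebra.Dimension.Constructions

/-!
# The geometric generic fibre of a finite generically smooth algebra of rank two has two points
-/

set_option autoImplicit false
set_option linter.style.haveILetI false
set_option maxHeartbeats 800000

universe u

open scoped TensorProduct

noncomputable section

namespace QuadZeroLib

theorem discrete_card_two (R K Ω O : Type u) [CommRing R] [Field K] [Algebra R K] [Field Ω] [Algebra K Ω]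
    [Algebra R Ω] [IsScalarTower R K Ω] [IsSepClosed Ω] [CommRing O] [Algebra R O] [Module.Finite R O]
    [Module.Free R O] (h2 : Module.finrank R O = 2) [Algebra.FormallySmooth K (K ⊗[R] O)] :
    DiscreteTopology (PrimeSpectrum (O ⊗[R] Ω)) ∧ Nat.card (PrimeSpectrum (O ⊗[R] Ω)) = 2 := by
  haveI : Nontrivial R := RingHom.domain_nontrivial (algebraMap R Ω)
  haveI : Algebra.FormallyUnramified K (K ⊗[R] O) := PowEtCentralLib.formallyUnramified_of_finite_smooth K _
  haveI : Algebra.FormallyEtale K (K ⊗[R] O) := Algebra.FormallyEtale.of_formallyUnramified_and_formallySmooth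
  haveI : Algebra.FormallyEtale Ω (Ω ⊗[R] O) :=
    .of_equiv (Algebra.TensorProduct.cancelBaseChange R K Ω Ω O)
  haveI : IsArtinianRing (Ω ⊗[R] O) := isArtinian_of_tower Ω inferInstance
  have e := Algebra.FormallyEtale.equivPiOfIsSepClosed Ω (Ω ⊗[R] O)
  haveI : Finite (PrimeSpectrum (Ω ⊗[R] O)) := inferInstance
  have hB : Nat.card (PrimeSpectrum (Ω ⊗[R] O)) = 2 := by
    haveI := Fintype.ofFinite (PrimeSpectrum (Ω ⊗[R] O))
    rw [Nat.card_eq_fintype_card, ← Module.finrank_fintype_fun_eq_card Ω, ← e.toLinearEquiv.finrank_eq,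
      Module.finrank_baseChange, h2]
  let c : PrimeSpectrum (O ⊗[R] Ω) ≃ₜ PrimeSpectrum (Ω ⊗[R] O) :=
    PrimeSpectrum.homeomorphOfRingEquiv (Algebra.TensorProduct.comm R O Ω).toRingEquiv
  exact ⟨c.symm.discreteTopology, (Nat.card_congr c.toEquiv).trans hB⟩

end QuadZeroLib
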