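import Groth.Prelude.Def_VanCyc
import Groth.Agent.QuadZeroLib.Alg
import Groth.Agent.QfHensFiniteLib.Main
import Groth.Agent.PowEtCentralLib.SmoothFinite
import Mathlib.RingTheory.Etale.Field
import Mathlib.RingTheory.LocalRing.Module
import Mathlib.RingTheory.QuasiFinite.Weakly

/-!
# The local ring at an ordinary quadratic point of a zero-dimensional special fibre

Over a strictly henselian base it is finite free of rank two, and its geometric generic fibre has two points.
-/

set_option autoImplicit false
set_option linter.style.haveILetI false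
set_option backward.isDefEq.respectTransparency false
set_option backward.isDefEq.respectTransparency.types false
set_option maxHeartbeats 1600000
set_option synthInstance.maxHeartbeats 200000

universe u

open CategoryTheory CategoryTheory.Limits AlgebraicGeometry IsLocalRing
open scoped TensorProduct

noncomputable section

namespace QuadZeroLib

theorem exists_specMap_fromSpecStalk {Y : Scheme.{u}} {Q : CommRingCat.{u}} [IsLocalRing Q] (g : Spec Q ⟶ Y) (y : Y)
    (h : g.base (closedPoint Q) = y) : ∃ ψ : Y.presheaf.stalk y ⟶ Q, Spec.map ψ ≫ Y.fromSpecStalk y = g := by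
  subst h
  exact ⟨Scheme.stalkClosedPointTo g, Scheme.Spec_stalkClosedPointTo_fromSpecStalk g⟩

theorem specMap_resHom {k : Type u} [Field k] {Y : Scheme.{u}} (g : Y ⟶ Spec (CommRingCat.of k)) (y : Y) :
    Spec.map (CommRingCat.ofHom (VanCyc.resHom g y)) = Y.fromSpecStalk y ≫ g := by
  have h1 : g = Y.toSpecΓ ≫ Spec.map ((Scheme.ΓSpecIso (CommRingCat.of k)).inv ≫ g.appTop) := by
    rw [Spec.map_comp, ← Scheme.toSpecΓ_naturality_assoc]
    simp
  conv_rhs => rw [h1, Scheme.fromSpecStalk_toSpecΓ_assoc, ← Spec.map_comp]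
  rfl

variable {R : Type u} [CommRing R]
  {X : Scheme.{u}} (f : X ⟶ Spec (CommRingCat.of R))

/-- The structure map of a local ring. -/
def strHom (x' : X) : R →+* X.presheaf.stalk x' := (Spec.preimage (X.fromSpecStalk x' ≫ f)).hom

theorem specMap_strHom (x' : X) :
    Spec.map (CommRingCat.ofHom (strHom f x')) = X.fromSpecStalk x' ≫ f := Spec.map_preimage _

/-- The structure map of an affine open. -/
def strHomU {U : X.Opens} (hU : IsAffineOpen U) : R →+* Γ(X, U) := (Spec.preimage (hU.fromSpec ≫ f)).hom

theorem specMap_strHomU {U : X.Opens} (hU : IsAffineOpen U) :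
    Spec.map (CommRingCat.ofHom (strHomU f hU)) = hU.fromSpec ≫ f := Spec.map_preimage _

theorem germ_comp_strHomU {U : X.Opens} (hU : IsAffineOpen U) (x' : X) (hx : x' ∈ U) :
    (X.presheaf.germ U x' hx).hom.comp (strHomU f hU) = strHom f x' := by
  have h : CommRingCat.ofHom (strHomU f hU) ≫ X.presheaf.germ U x' hx = CommRingCat.ofHom (strHom f x') := by
    apply Spec.map_injective
    rw [Spec.map_comp, specMap_strHomU, specMap_strHom, ← hU.fromSpecStalk_eq_fromSpecStalk hx]
    exact (Category.assoc _ _ _).symm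
  exact congrArg CommRingCat.Hom.hom h

theorem isLocalHom_strHom [IsLocalRing R] (x' : X) (hx : f.base x' = closedPoint R) : IsLocalHom (strHom f x') :=
  (IsLocalRing.isLocalHom_iff_comap_closedPoint _).2 (by
    show (Spec.map (CommRingCat.ofHom (strHom f x'))).base (closedPoint (X.presheaf.stalk x')) = _
    rw [specMap_strHom]
    exact (congrArg f.base Scheme.fromSpecStalk_closedPoint).trans hx)

theorem finiteType_strHomU [LocallyOfFiniteType f] {U : X.Opens} (hU : IsAffineOpen U) :
    (strHomU f hU).FiniteType := by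
  have h : LocallyOfFiniteType (Spec.map (CommRingCat.ofHom (strHomU f hU))) := by
    rw [specMap_strHomU]; infer_instance
  exact (HasRingHomProperty.Spec_iff (P := @LocallyOfFiniteType)).mp h

theorem base_icl [IsLocalRing R] (x : ↥(VanCyc.spFib R f)) : f.base ((VanCyc.icl R f).base x) = closedPoint R := by
  rw [← Scheme.Hom.comp_apply, pullback.condition, Scheme.Hom.comp_apply]
  exact PrimeSpectrum.ext (by
    have h : ((VanCyc.spStr R f).base x) = closedPoint (ResidueField R) := Subsingleton.elim _ _
    rw [h]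
    show Ideal.comap (residue R) (maximalIdeal (ResidueField R)) = maximalIdeal R
    rw [(IsLocalRing.isField_iff_maximalIdeal_eq.1 (Field.toIsField _)), ← RingHom.ker_eq_comap_bot,
      IsLocalRing.ker_residue])

/-- Finite free of rank two. -/
theorem finite_free_rank_two [HenselianLocalRing R] [IsSepClosed (ResidueField R)] [IsNoetherianRing R]
    [LocallyOfFiniteType f] [Flat f] (x : ↥(VanCyc.spFib R f))
    (hq : VanCyc.IsOrdQuadPt (VanCyc.resHom (VanCyc.spStr R f) x) 0) :
    letI := (strHom f ((VanCyc.icl R f).base x)).toAlgebra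
    Module.Finite R (X.presheaf.stalk ((VanCyc.icl R f).base x)) ∧
      Module.Free R (X.presheaf.stalk ((VanCyc.icl R f).base x)) ∧
      Module.finrank R (X.presheaf.stalk ((VanCyc.icl R f).base x)) = 2 := by
  let k := ResidueField R
  let ι := VanCyc.icl R f
  let x' := ι.base x
  let O := X.presheaf.stalk x'
  let Os := (VanCyc.spFib R f).presheaf.stalk x
  let φ : R →+* O := strHom f x'
  let φs : k →+* Os := VanCyc.resHom (VanCyc.spStr R f) x
  let π : O →+* Os := (ι.stalkMap x).hom
  haveI hφl : IsLocalHom φ := isLocalHom_strHom f x' (base_icl f x)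
  haveI : IsClosedImmersion (VanCyc.toSk R) := IsClosedImmersion.spec_of_surjective _ residue_surjective
  haveI : IsClosedImmersion ι := inferInstance
  have hπs : Function.Surjective π := ι.stalkMap_surjective x
  have hπφ : π.comp φ = φs.comp (residue R) := by
    have h : CommRingCat.ofHom φ ≫ ι.stalkMap x = CommRingCat.ofHom (residue R) ≫ CommRingCat.ofHom φs := by
      apply Spec.map_injective
      rw [Spec.map_comp, Spec.map_comp, specMap_strHom, specMap_resHom, Scheme.SpecMap_stalkMap_fromSpecStalk_assoc,
        Category.assoc, pullback.condition]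
    exact congrArg CommRingCat.Hom.hom h
  let I : Ideal O := (maximalIdeal R).map φ
  have hker : RingHom.ker π = I := by
    refine le_antisymm ?_ (Ideal.map_le_iff_le_comap.2 fun r hr => ?_)
    · have hI : I ≤ maximalIdeal O := by
        rw [Ideal.map_le_iff_le_comap]
        exact fun r hr => map_nonunit φ r hr
      haveI : Nontrivial (O ⧸ I) := Ideal.Quotient.nontrivial_iff.2 fun h =>
        (maximalIdeal.isMaximal O).ne_top (top_le_iff.1 (h ▸ hI))
      haveI : IsLocalRing (O ⧸ I) := IsLocalRing.of_surjective' (Ideal.Quotient.mk I) Ideal.Quotient.mk_surjective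
      let kQ : k →+* O ⧸ I := Ideal.Quotient.lift (maximalIdeal R) ((Ideal.Quotient.mk I).comp φ)
        fun r hr => Ideal.Quotient.eq_zero_iff_mem.2 (Ideal.mem_map_of_mem φ hr)
      let mkI : O ⟶ CommRingCat.of (O ⧸ I) := CommRingCat.ofHom (Ideal.Quotient.mk I)
      have hw : (Spec.map mkI ≫ X.fromSpecStalk x') ≫ f = Spec.map (CommRingCat.ofHom kQ) ≫ VanCyc.toSk R := by
        rw [Category.assoc, ← specMap_strHom, ← Spec.map_comp, ← Spec.map_comp]
        rfl
      let g : Spec (CommRingCat.of (O ⧸ I)) ⟶ VanCyc.spFib R f := pullback.lift _ _ hw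
      have hg : g ≫ ι = Spec.map mkI ≫ X.fromSpecStalk x' := pullback.lift_fst _ _ _
      obtain ⟨ψ, hψ⟩ := exists_specMap_fromSpecStalk g x (ι.isClosedEmbedding.injective (by
        rw [← Scheme.Hom.comp_apply, hg, Scheme.Hom.comp_apply]
        haveI : IsLocalHom mkI.hom := .of_surjective _ Ideal.Quotient.mk_surjective
        rw [Spec_closedPoint]
        exact Scheme.fromSpecStalk_closedPoint))
      have h2 : ι.stalkMap x ≫ ψ = mkI := by
        apply Spec.map_injective
        rw [Spec.map_comp, ← cancel_mono (X.fromSpecStalk x'), Category.assoc,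
          Scheme.SpecMap_stalkMap_fromSpecStalk, ← Category.assoc, hψ, hg]
      intro o ho
      refine Ideal.Quotient.eq_zero_iff_mem.1 ?_
      have h3 := congrArg (fun t => t.hom o) h2
      simp only [CommRingCat.comp_apply, mkI] at h3
      refine h3.symm.trans ?_
      exact (congrArg ψ.hom (show (ι.stalkMap x).hom o = 0 from ho)).trans (map_zero _)
    · show π (φ r) = 0
      rw [← RingHom.comp_apply, hπφ, RingHom.comp_apply, residue_eq_zero_iff _ |>.2 hr, map_zero]
  letI aO : Algebra R O := φ.toAlgebra
  letI aOs : Algebra R Os := (π.comp φ).toAlgebra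
  letI : Algebra k Os := φs.toAlgebra
  haveI : IsScalarTower R k Os := IsScalarTower.of_algebraMap_eq' hπφ
  obtain ⟨_, ⟨U, hU', rfl⟩, hxU, -⟩ := X.isBasis_affineOpens.exists_subset_of_mem_open (Set.mem_univ x') isOpen_univ
  have hU : IsAffineOpen U := hU'
  let C := Γ(X, U)
  letI : Algebra R C := (strHomU f hU).toAlgebra
  haveI : Algebra.FiniteType R C := finiteType_strHomU f hU
  letI : Algebra C O := X.presheaf.algebra_section_stalk ⟨x', hxU⟩
  haveI : IsScalarTower R C O := IsScalarTower.of_algebraMap_eq' (germ_comp_strHomU f hU x' hxU).symm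
  let q : Ideal C := (hU.primeIdealOf ⟨x', hxU⟩).asIdeal
  haveI hloc : IsLocalization.AtPrime O q := hU.isLocalization_stalk ⟨x', hxU⟩
  haveI : Algebra.EssFiniteType C O := Algebra.EssFiniteType.of_isLocalization O q.primeCompl
  haveI : Algebra.EssFiniteType R O := Algebra.EssFiniteType.comp R C O
  let πR : O →ₐ[R] Os := AlgHom.mk' π (fun c y => by
    rw [Algebra.smul_def, Algebra.smul_def, map_mul]; rfl)
  haveI : Algebra.EssFiniteType R Os := Algebra.EssFiniteType.of_surjective πR hπs
  haveI : Algebra.EssFiniteType k Os := Algebra.EssFiniteType.of_comp R k Os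
  obtain ⟨hfink, hrk⟩ := finite_finrank_of_isOrdQuadPt φs (inferInstance : Algebra.EssFiniteType k Os) hq
  haveI := hfink
  haveI : Module.Finite R k := Module.Finite.of_surjective (Algebra.linearMap R k) residue_surjective
  haveI : Module.Finite R Os := Module.Finite.trans k Os
  have hqm : q.comap (algebraMap R C) = maximalIdeal R := by
    rw [← IsLocalization.AtPrime.comap_maximalIdeal O q, Ideal.comap_comap, ← IsScalarTower.algebraMap_eq R C O]
    exact ((IsLocalRing.local_hom_TFAE φ).out 0 4).1 hφl
  let e : Localization.AtPrime q ≃ₐ[R] O := (IsLocalization.algEquiv q.primeCompl (Localization.AtPrime q) O).restrictScalars R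
  haveI : Algebra.WeaklyQuasiFiniteAt R q := by
    rw [Algebra.weaklyQuasiFiniteAt_iff]
    have hu : q.under R = maximalIdeal R := hqm
    rw [hu]
    let ρ : (Localization.AtPrime q ⧸ (maximalIdeal R).map (algebraMap R (Localization.AtPrime q))) →ₐ[R] Os :=
      Ideal.Quotient.liftₐ _ (πR.comp e.toAlgHom) (fun a ha => by
        have : (maximalIdeal R).map (algebraMap R (Localization.AtPrime q)) ≤ RingHom.ker (πR.comp e.toAlgHom).toRingHom := by
          rw [Ideal.map_le_iff_le_comap]
          intro r hr
          show (πR.comp e.toAlgHom) (algebraMap R _ r) = 0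
          rw [AlgHom.commutes]
          show π (φ r) = 0
          exact (hker.ge (Ideal.mem_map_of_mem φ hr) : φ r ∈ RingHom.ker π)
        exact this ha)
    have hρ : Function.Injective ρ := by
      rw [injective_iff_map_eq_zero]
      intro a ha
      obtain ⟨b, rfl⟩ := Ideal.Quotient.mk_surjective a
      rw [Ideal.Quotient.eq_zero_iff_mem]
      have h1 : e b ∈ I := hker.le (show e b ∈ RingHom.ker π from ha)
      have h2 : (maximalIdeal R).map (algebraMap R (Localization.AtPrime q)) = I.comap e.toRingEquiv.toRingHom := by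
        rw [show I = ((maximalIdeal R).map (algebraMap R (Localization.AtPrime q))).map e.toRingEquiv.toRingHom from by
          rw [Ideal.map_map]
          exact congrArg (fun t => Ideal.map t (maximalIdeal R)) (RingHom.ext fun r => (e.commutes r).symm),
          Ideal.comap_map_of_bijective e.toRingEquiv.toRingHom e.bijective]
      rw [h2]
      exact h1
    haveI : IsNoetherian R Os := isNoetherian_of_isNoetherianRing_of_finite R Os
    haveI := Module.Finite.of_injective ρ.toLinearMap hρ
    infer_instance
  haveI : Algebra.QuasiFiniteAt R q := Algebra.QuasiFiniteAt.of_weaklyQuasiFiniteAt q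
  haveI : Module.Finite R (Localization.AtPrime q) := QfHensFiniteLib.finite_atPrime q hqm
  haveI : Module.Finite R O := Module.Finite.equiv e.toLinearEquiv
  haveI : Module.Flat R C := by
    have h : Flat (Spec.map (CommRingCat.ofHom (strHomU f hU))) := by rw [specMap_strHomU]; infer_instance
    exact (HasRingHomProperty.Spec_iff (P := @Flat)).mp h
  haveI : Module.Flat C O := IsLocalization.flat O q.primeCompl
  haveI : Module.Flat R O := Module.Flat.trans R C O
  haveI : Module.Free R O := Module.free_of_flat_of_isLocalRing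
  let τ : k ⊗[R] O →ₐ[k] Os := Algebra.TensorProduct.lift (Algebra.ofId k Os) πR fun _ _ => Commute.all _ _
  have hone : ∀ z : k ⊗[R] O, ∃ y : O, (1 : k) ⊗ₜ[R] y = z := fun z => by
    induction z using TensorProduct.induction_on with
    | zero => exact ⟨0, TensorProduct.tmul_zero _ _⟩
    | tmul a y =>
      obtain ⟨r, rfl⟩ := residue_surjective a
      refine ⟨r • y, ?_⟩
      rw [← TensorProduct.smul_tmul]
      congr 1
      exact (Algebra.smul_def r (1 : k)).trans (mul_one _)
    | add a b ha hb =>
      obtain ⟨y, hy⟩ := ha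
      obtain ⟨y', hy'⟩ := hb
      exact ⟨y + y', by rw [TensorProduct.tmul_add, hy, hy']⟩
  have hτ : Function.Bijective τ := by
    refine ⟨(injective_iff_map_eq_zero τ).2 fun z hz => ?_, fun o => ?_⟩
    · obtain ⟨y, rfl⟩ := hone z
      have hy : y ∈ I := hker.le (show π y = 0 by simpa [τ, πR] using hz)
      let inc : O →ₐ[R] k ⊗[R] O := Algebra.TensorProduct.includeRight
      have hI : I ≤ RingHom.ker inc.toRingHom := by
        rw [Ideal.map_le_iff_le_comap]
        intro r hr
        show inc (algebraMap R O r) = 0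
        rw [AlgHom.commutes, IsScalarTower.algebraMap_apply R k (k ⊗[R] O)]
        rw [show algebraMap R k r = 0 from (residue_eq_zero_iff r).2 hr, map_zero]
      exact hI hy
    · obtain ⟨y, rfl⟩ := hπs o
      exact ⟨1 ⊗ₜ y, by simp [τ, πR]⟩
  refine ⟨inferInstance, inferInstance, ?_⟩
  rw [← Module.finrank_baseChange (R := k) (S := R) (M' := O), (AlgEquiv.ofBijective τ hτ).toLinearEquiv.finrank_eq]
  exact hrk

/-- The local ring is formally smooth over the generic point when the generic fibre is smooth near it. -/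
theorem formallySmooth_generic (K : Type u) [Field K] [Algebra R K] (x' : X) (V : X.Opens) (hxV : x' ∈ V)
    (hV : Smooth (pullback.snd (V.ι ≫ f) (VanCyc.toS R K))) :
    letI := (strHom f x').toAlgebra
    Algebra.FormallySmooth K (K ⊗[R] X.presheaf.stalk x') := by
  obtain ⟨_, ⟨U, hU', rfl⟩, hxU, hUV⟩ := X.isBasis_affineOpens.exists_subset_of_mem_open hxV V.isOpen
  have hU : IsAffineOpen U := hU'
  let C := Γ(X, U)
  let O := X.presheaf.stalk x'
  letI : Algebra R O := (strHom f x').toAlgebra
  letI : Algebra R C := (strHomU f hU).toAlgebra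
  letI : Algebra C O := X.presheaf.algebra_section_stalk ⟨x', hxU⟩
  haveI : IsScalarTower R C O := IsScalarTower.of_algebraMap_eq' (germ_comp_strHomU f hU x' hxU).symm
  let q : Ideal C := (hU.primeIdealOf ⟨x', hxU⟩).asIdeal
  haveI hloc : IsLocalization.AtPrime O q := hU.isLocalization_stalk ⟨x', hxU⟩
  haveI : Algebra.Smooth K (K ⊗[R] C) := by
    have hr : Set.range hU.fromSpec.base ⊆ Set.range V.ι.base := by
      rw [IsAffineOpen.range_fromSpec, Scheme.Opens.range_ι]; exact hUV
    let l := IsOpenImmersion.lift V.ι hU.fromSpec hr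
    have hl : l ≫ V.ι = hU.fromSpec := IsOpenImmersion.lift_fac _ _ _
    haveI : IsOpenImmersion l := by
      haveI : IsOpenImmersion (l ≫ V.ι) := by rw [hl]; infer_instance
      exact IsOpenImmersion.of_comp l V.ι
    let sK := CommRingCat.ofHom (algebraMap R C)
    let inK : CommRingCat.of K ⟶ CommRingCat.of (K ⊗[R] C) := CommRingCat.ofHom Algebra.TensorProduct.includeLeftRingHom
    let inC : CommRingCat.of C ⟶ CommRingCat.of (K ⊗[R] C) :=
      CommRingCat.ofHom (Algebra.TensorProduct.includeRight (R := R) (A := K) (B := C)).toRingHom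
    have sq : IsPullback (Spec.map inC) (Spec.map inK) (l ≫ V.ι ≫ f) (VanCyc.toS R K) := by
      rw [reassoc_of% hl, ← specMap_strHomU]
      exact (isPullback_SpecMap_of_isPushout _ _ _ _ (CommRingCat.isPushout_tensorProduct R K C)).flip
    haveI : Smooth (Spec.map inK) := by
      have sq' : IsPullback (pullback.fst l (pullback.fst (V.ι ≫ f) (VanCyc.toS R K)))
          (pullback.snd l (pullback.fst (V.ι ≫ f) (VanCyc.toS R K)) ≫ pullback.snd (V.ι ≫ f) (VanCyc.toS R K))
          (l ≫ V.ι ≫ f) (VanCyc.toS R K) :=
        (IsPullback.of_hasPullback l _).paste_vert (IsPullback.of_hasPullback (V.ι ≫ f) (VanCyc.toS R K))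
      rw [← IsPullback.isoIsPullback_hom_snd _ _ sq sq']
      haveI := hV
      infer_instance
    exact RingHom.smooth_algebraMap.mp ((HasRingHomProperty.Spec_iff (P := @Smooth)).mp ‹Smooth (Spec.map inK)›)
  refine Algebra.FormallySmooth.of_comp_surjective fun B _ _ I hI g => ?_
  letI : Algebra R B := ((algebraMap K B).comp (algebraMap R K)).toAlgebra
  haveI : IsScalarTower R K B := IsScalarTower.of_algebraMap_eq' rfl
  let j : K ⊗[R] C →ₐ[K] K ⊗[R] O := Algebra.TensorProduct.map (AlgHom.id K K) (IsScalarTower.toAlgHom R C O)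
  obtain ⟨g', hg'⟩ := Algebra.FormallySmooth.comp_surjective K (K ⊗[R] C) I hI (g.comp j)
  let h₀ : C →ₐ[R] B := (g'.restrictScalars R).comp Algebra.TensorProduct.includeRight
  have hu : ∀ s : q.primeCompl, IsUnit (h₀ s) := fun s => by
    refine (IsNilpotent.isUnit_quotient_mk_iff (I := I) ⟨2, hI⟩).1 ?_
    have h1 := AlgHom.congr_fun hg' ((1 : K) ⊗ₜ[R] (s : C))
    have h2 : IsUnit (g (j ((1 : K) ⊗ₜ[R] (s : C)))) :=
      ((IsLocalization.map_units O s).map (Algebra.TensorProduct.includeRight (R := R) (A := K) (B := O))).map g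
    exact (h1 ▸ h2 : IsUnit (Ideal.Quotient.mk I (g' ((1 : K) ⊗ₜ[R] (s : C)))))
  let h₁ : O →ₐ[R] B := IsLocalization.liftAlgHom (M := q.primeCompl) (f := h₀) hu
  refine ⟨Algebra.TensorProduct.lift (Algebra.ofId K B) h₁ fun _ _ => Commute.all _ _, ?_⟩
  refine Algebra.TensorProduct.ext (by ext) ?_
  refine AlgHom.coe_ringHom_injective (IsLocalization.ringHom_ext q.primeCompl (RingHom.ext fun c => ?_))
  have h1 := AlgHom.congr_fun hg' ((1 : K) ⊗ₜ[R] c)
  simp only [AlgHom.coe_comp, Function.comp_apply, j, Algebra.TensorProduct.map_tmul] at h1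
  have h3 : j ((1 : K) ⊗ₜ[R] c) = (1 : K) ⊗ₜ[R] algebraMap C O c := rfl
  rw [show (Algebra.TensorProduct.map (AlgHom.id K K) (IsScalarTower.toAlgHom R C O)) ((1 : K) ⊗ₜ[R] c) = j ((1 : K) ⊗ₜ[R] c) from rfl, h3] at h1
  simpa [h₁, h₀] using h1

end QuadZeroLib
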