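import Groth.Agent.EtPnCohLib.Punct
import Groth.Agent.EtPnCohLib.Compact
import Groth.Agent.EtStrictAcycLib.Fibre
import Groth.Agent.EtShLib.StrictLocal
import Groth.Agent.EtShLib.ConstSheaf
import Groth.Agent.EtSmAcycLib.LineHens

/-!
# Stalks of the unit of a dominant base change; constant sheaves on finite discrete schemes
-/

set_option autoImplicit false
set_option linter.all false
set_option backward.isDefEq.respectTransparency false
set_option backward.isDefEq.respectTransparency.types false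
set_option maxHeartbeats 2000000
set_option synthInstance.maxHeartbeats 400000

universe u

open CategoryTheory CategoryTheory.Limits CategoryTheory.Abelian AlgebraicGeometry Opposite
open Groth.Agent Groth.Agent.EtShLib

noncomputable section

namespace QuadZeroLib

/-- Near a point in the closure of the image of `h`, constant sheaves inject into `h_* h^*`. -/
theorem mono_unit_const {X Y : Scheme.{u}} (h : X ⟶ Y) (M : Type) [AddCommGroup M] {Ω : Type u} [Field Ω]
    [IsSepClosed Ω] (ξ : Spec (CommRingCat.of Ω) ⟶ Y)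
    (hd : ∀ W : Set Y, IsOpen W → ξ.base default ∈ W → ∃ z : X, h.base z ∈ W) :
    Mono ((stk (A := AddCommGrpCat.{u + 1}) ξ).map ((EtCoh.pullPushAdj h).unit.app (EtCoh.const Y M))) := by
  let A := AddCommGrpCat.of (ULift.{u + 1} M)
  let F := EtCoh.const Y M
  obtain ⟨u⟩ : Nonempty (Fib ξ (EtCoh.top Y)) := ⟨Fib.mk ξ (Category.comp_id _)⟩
  haveI := isCst_cstUnit (X := Y) (A := AddCommGrpCat.{u + 1}) A Ω ξ u
  refine (AddCommGrpCat.mono_iff_injective _).2 ((injective_iff_map_eq_zero _).2 fun p hp => ?_)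
  obtain ⟨m, rfl⟩ := (ConcreteCategory.bijective_of_isIso (cstUnit Y A ≫ germ ξ F (EtCoh.top Y) u)).2 p
  suffices hm : m = 0 by rw [hm, map_zero]
  rw [ConcreteCategory.comp_apply] at hp
  have hp' := (germ_natural_apply ξ ((EtCoh.pullPushAdj h).unit.app (EtCoh.const Y M)) (EtCoh.top Y) u _).symm.trans hp
  obtain ⟨V, g, v, hv, he⟩ := (germ_eq_iff ξ (EtCoh.top Y) u _ 0).1 (hp'.trans (map_zero _).symm)
  rw [map_zero, ← NatTrans.naturality_apply] at he
  let s := F.obj.map g.op (cstUnit Y A m)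
  obtain ⟨z, hz⟩ := hd (Set.range V.hom.base) V.hom.isOpenMap.isOpen_range
    ⟨v.pt, congrArg (fun t : Spec (CommRingCat.of Ω) ⟶ Y => t.base default) v.w⟩
  obtain ⟨y, hy⟩ := hz
  obtain ⟨w, -, -⟩ := Scheme.Pullback.exists_preimage_pullback (f := V.hom) (g := h) y z hy
  obtain ⟨Ω', _, _, ζ, w', -⟩ := exists_geometric (U := (EtCoh.bc h).obj V) w
  let v' := w'.proj h ζ
  have hgerm : germ (ζ ≫ h) F V v' s = germ (ζ ≫ h) F V v' 0 := by
    haveI : IsIso ((stalkPull h ζ AddCommGrpCat.{u + 1}).hom.app F) := inferInstance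
    apply (ConcreteCategory.bijective_of_isIso ((stalkPull h ζ AddCommGrpCat.{u + 1}).hom.app F)).1
    rw [map_zero, map_zero, ← ConcreteCategory.comp_apply, germ_stalkPull, ConcreteCategory.comp_apply]
    exact (congrArg _ he).trans (map_zero _)
  rw [map_zero, germ_res_apply] at hgerm
  haveI := isCst_cstUnit (X := Y) (A := AddCommGrpCat.{u + 1}) A Ω' (ζ ≫ h) (v'.map g)
  refine (ConcreteCategory.bijective_of_isIso (cstUnit Y A ≫ germ (ζ ≫ h) F (EtCoh.top Y) (v'.map g))).1 ?_
  rw [map_zero, ConcreteCategory.comp_apply]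
  exact hgerm

/-- No higher cohomology over a separably closed field. -/
theorem subsingleton_H_finite {B : Scheme.{u}} {Ω : Type u} [Field Ω] [IsSepClosed Ω]
    (π : B ⟶ Spec (CommRingCat.of Ω)) [IsFinite π] (G : EtCoh.Ab B) (q : ℕ) (hq : 1 ≤ q) :
    Subsingleton (EtCoh.H B G q) := by
  haveI : IsSepClosed (IsLocalRing.ResidueField Ω) := EtSmAcycLib.isSepClosed_of_equiv
    (RingEquiv.ofBijective (IsLocalRing.residue Ω)
      ⟨(IsLocalRing.residue Ω).injective, IsLocalRing.residue_surjective⟩)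
  obtain ⟨e⟩ := EtPnCohLib.nonempty_H_push π G (fun k hk => EtStrictAcycLib.isZero_Rpush_finite π G k hk) q
  haveI := EtShLib.subsingleton_H Ω ((EtCoh.push π).obj G) q hq
  exact e.symm.toEquiv.subsingleton

/-- Global sections of a constant sheaf on two points. -/
theorem nonempty_H_zero_two {B : Scheme.{u}} [DiscreteTopology B] (h2 : Nat.card B = 2) (M : Type)
    [AddCommGroup M] : Nonempty (EtCoh.H B (EtCoh.const B M) 0 ≃+ ULift.{u + 1} (M × M)) := by
  obtain ⟨e⟩ := EtPnCohLib.nonempty_H_zero_discrete (Y := B) M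
  haveI : Finite B := Nat.finite_of_card_ne_zero (by omega)
  let σ : Fin 2 ≃ B := (Finite.equivFinOfCardEq h2).symm
  exact ⟨e.trans ((AddEquiv.arrowCongr σ.symm (AddEquiv.refl M)).trans
    (((LinearEquiv.finTwoArrow ℤ M).toAddEquiv).trans AddEquiv.ulift.symm))⟩

/-- The cokernel of an injection `ℤ/N → (ℤ/N)²` is `ℤ/N`. -/
theorem nonempty_cokernel {N : ℕ} [NeZero N] {A B : AddCommGrpCat.{u + 1}} (φ : A ⟶ B) [Mono φ]
    (eA : A ≃+ ULift.{u + 1} (ZMod N)) (eB : B ≃+ ULift.{u + 1} (ZMod N × ZMod N)) :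
    Nonempty (cokernel φ ≅ AddCommGrpCat.of (ULift.{u + 1} (ZMod N))) := by
  let a : ZMod N ≃+ A := (eA.trans AddEquiv.ulift).symm
  let b : B ≃+ (Fin 2 → ZMod N) := (eB.trans AddEquiv.ulift).trans (LinearEquiv.finTwoArrow ℤ (ZMod N)).toAddEquiv.symm
  let ψ : ZMod N →+ (Fin 2 → ZMod N) := b.toAddMonoidHom.comp (φ.hom.comp a.toAddMonoidHom)
  obtain ⟨q, hq, hker⟩ := EtPnCohLib.exists_cokernel ψ
    (b.injective.comp (((AddCommGrpCat.mono_iff_injective φ).1 inferInstance).comp a.injective))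
  let c : (Fin 1 → ZMod N) ≃+ ULift.{u + 1} (ZMod N) :=
    (LinearEquiv.funUnique (Fin 1) ℤ (ZMod N)).toAddEquiv.trans AddEquiv.ulift.symm
  let Q : B →+ ULift.{u + 1} (ZMod N) := (c.toAddMonoidHom.comp q).comp b.toAddMonoidHom
  have hQ : Function.Surjective Q := c.surjective.comp (hq.comp b.surjective)
  have hKer : Q.ker = φ.hom.range := by
    ext x
    have h1 : x ∈ Q.ker ↔ b x ∈ q.ker := by
      simp only [AddMonoidHom.mem_ker]
      exact map_eq_zero_iff c c.injective
    rw [h1, hker]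
    constructor
    · rintro ⟨t, ht⟩
      exact ⟨a t, b.injective ht⟩
    · rintro ⟨t, rfl⟩
      exact ⟨a.symm t, congrArg (fun s => b (φ s)) (a.apply_symm_apply t)⟩
  exact ⟨AddCommGrpCat.cokernelIsoQuotient φ ≪≫ AddEquiv.toAddCommGrpIso
    ((QuotientAddGroup.quotientAddEquivOfEq hKer.symm).trans (QuotientAddGroup.quotientKerEquivOfSurjective Q hQ))⟩

end QuadZeroLib
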